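import Cfsg.Agent.Lib.SchurMult.M22.Tables0
import Cfsg.Agent.Lib.SchurMult.M22.Tables1
import Cfsg.Agent.Lib.SchurMult.M22.Tables2
import Cfsg.Agent.Lib.SchurMult.M22.Tables3

/-!
Data of the twelvefold cover of `M22`: six generators, the central element, the inverse generators, the powers
of the central element, then the representatives along a stabiliser chain on five points.
-/

set_option autoImplicit false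
set_option maxRecDepth 100000

namespace CfsgLib.SchurMult.M22

/-- All the tables. -/
def ts : List ℕ := tables0 ++ tables1 ++ tables2 ++ tables3

/-- Generators of the chain. -/
def levels : List (List ℕ) :=
  [[0, 1, 2, 3, 4, 5, 6], [0, 1, 2, 3, 4, 6], [0, 1, 2, 3, 6], [0, 1, 2, 6], [0, 6], [6]]

/-- Representatives of the chain. -/
def reps : List (List ℕ) :=
  [[25, 26, 27, 28, 29, 30, 31, 32, 33, 34, 35, 36, 37, 38, 39, 40, 41, 42, 43, 44, 45, 46], [47, 48, 49, 50, 51, 52, 53, 54, 55, 56, 57, 58, 59, 60, 61, 62, 63, 64, 65, 66, 67], [68, 69, 70, 71, 72, 73, 74, 75, 76, 77, 78, 79, 80, 81, 82, 83, 84, 85, 86, 87], [88, 89, 90, 91, 92, 93, 94, 95, 96, 97, 98, 99, 100, 101, 102, 103], [104, 105, 106]]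

/-- Words of the representatives. -/
def repWords : List (List ℕ) :=
  [[], [5], [1, 5], [2, 5], [3, 5], [4, 5], [5, 5], [0, 1, 5], [1, 1, 5], [2, 1, 5], [3, 1, 5], [4, 1, 5], [5, 1, 5], [0, 2, 5], [1, 2, 5], [1, 3, 5], [5, 3, 5], [0, 5, 5], [4, 5, 5], [5, 5, 5], [5, 2, 1, 5], [5, 3, 1, 5], [], [4], [0, 4], [1, 4], [2, 4], [3, 4], [4, 4], [0, 0, 4], [1, 0, 4], [2, 0, 4], [3, 0, 4], [0, 1, 4], [1, 1, 4], [3, 1, 4], [4, 1, 4], [1, 2, 4], [4, 2, 4], [0, 3, 4], [3, 3, 4], [1, 4, 4], [4, 0, 3, 4], [], [3], [0, 3], [1, 3], [2, 3], [3, 3], [0, 0, 3], [1, 0, 3], [2, 0, 3], [3, 0, 3], [0, 1, 3], [1, 1, 3], [2, 1, 3], [3, 1, 3], [1, 2, 3], [2, 2, 3], [0, 3, 3], [3, 3, 3], [0, 1, 0, 3], [3, 1, 0, 3], [], [1], [2], [0, 1], [1, 1], [2, 1], [0, 2], [1, 2], [2, 2], [2, 0, 1], [2, 1, 1], [0, 2, 1], [1,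 2, 1], [2, 2, 1], [1, 0, 2], [0, 1, 2], [], [0], [0, 0]]

/-- The base points. -/
def basePts : List ℕ :=
  [1, 7, 12, 2, 13]

/-- The actions on the code. -/
def pointTbls : List ℕ :=
  [962660455969611261303912270539327520, 963350007874449559320804578917923872, 975722176331077200791909510268262432, 962127886305690621889499876337273888, 973112565839653703377402740142680096, 965296091860410484940937463322982464, 984818244535754528103549039458486304, 967327268362747623955654694630721568, 966231583689153259696059970005582880, 960146697502277920820596964054256672, 975101021466029299445100927102962720, 979611910429519644839575123315019808, 963482041993812370156091365781669216]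

/-- Products at level 0. -/
def rules0 : List (List (List ℕ)) :=
  [
  [[0, 0, 0, 0, 1, 0], [1, 11, 4, 13, 2, 5], [7, 0, 0, 0, 0, 0], [13, 0, 0, 0, 0, 0], [3, 0, 11, 14, 1, 7], [12, 1, 9, 4, 0, 1], [17, 0, 0, 0, 0, 0], [8, 11, 4, 13, 2, 2], [2, 4, 19, 8, 2, 2], [5, 16, 14, 1, 2, 1], [15, 4, 5, 5, 1, 6], [10, 0, 11, 12, 2, 3], [9, 11, 11, 6, 1, 2], [4, 0, 11, 14, 1, 5], [20, 1, 19, 8, 2, 10], [11, 6, 7, 6, 0, 6], [14, 4, 0, 3, 2, 8], [19, 2, 12, 11, 2, 0], [18, 0, 11, 11, 1, 9], [6, 8, 5, 2, 0, 1], [16, 18, 18, 9, 0, 4], [21, 4, 5, 6, 2, 10]],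
  [[0, 0, 0, 1, 0, 0], [2, 0, 0, 0, 0, 0], [8, 0, 0, 0, 0, 0], [14, 0, 0, 0, 0, 0], [15, 0, 0, 0, 0, 0], [4, 20, 0, 11, 2, 9], [17, 0, 10, 7, 1, 9], [7, 11, 4, 13, 2, 2], [1, 0, 0, 0, 0, 3], [11, 11, 1, 0, 0, 5], [3, 4, 16, 7, 0, 10], [20, 12, 1, 5, 2, 10], [16, 0, 4, 14, 1, 3], [12, 14, 7, 10, 2, 2], [10, 11, 16, 8, 1, 9], [5, 3, 6, 12, 2, 11], [13, 4, 0, 3, 2, 8], [19, 2, 1, 9, 1, 7], [18, 17, 7, 11, 0, 9], [6, 8, 16, 6, 1, 10], [9, 0, 0, 2, 0, 10], [21, 13, 13, 12, 0, 0]],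
  [[0, 0, 0, 2, 0, 0], [3, 0, 0, 0, 0, 0], [9, 0, 0, 0, 0, 0], [4, 4, 18, 11, 2, 2], [1, 11, 13, 14, 2, 2], [14, 18, 9, 8, 0, 9], [17, 0, 12, 14, 0, 9], [16, 0, 8, 13, 2, 1], [15, 4, 18, 11, 2, 10], [10, 11, 16, 8, 1, 1], [2, 4, 16, 7, 0, 6], [5, 3, 12, 9, 2, 5], [7, 11, 11, 6, 1, 4], [13, 11, 4, 13, 2, 6], [11, 11, 1, 0, 0, 9], [20, 12, 0, 11, 2, 10], [12, 7, 19, 8, 0, 0], [19, 2, 4, 1, 0, 2], [18, 18, 9, 14, 2, 2], [6, 8, 7, 15, 2, 1], [8, 0, 0, 2, 0, 6], [21, 2, 2, 5, 1, 4]],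
  [[0, 0, 1, 0, 0, 0], [4, 0, 0, 0, 0, 0], [10, 0, 0, 0, 0, 0], [13, 4, 3, 15, 2, 10], [1, 0, 5, 6, 1, 5], [14, 7, 14, 2, 1, 7], [9, 4, 17, 4, 2, 8], [18, 1, 11, 10, 1, 1], [12, 7, 7, 14, 1, 6], [17, 8, 16, 2, 2, 0], [15, 0, 8, 7, 0, 7], [6, 0, 9, 11, 0, 0], [5, 16, 9, 15, 0, 11], [3, 11, 11, 0, 1, 1], [8, 11, 14, 15, 2, 0], [16, 18, 7, 14, 1, 5], [2, 11, 4, 13, 0, 11], [11, 11, 13, 13, 0, 1], [20, 7, 13, 8, 1, 4], [7, 4, 0, 15, 0, 1], [19, 0, 6, 1, 2, 8], [21, 2, 13, 1, 1, 6]],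
  [[0, 1, 0, 0, 0, 0], [5, 0, 0, 0, 0, 0], [11, 0, 0, 0, 0, 0], [12, 6, 3, 15, 0, 3], [6, 12, 0, 1, 2, 10], [2, 16, 17, 13, 1, 6], [18, 0, 0, 0, 0, 0], [3, 20, 2, 13, 2, 2], [4, 9, 17, 0, 1, 4], [15, 12, 13, 13, 2, 9], [19, 1, 0, 15, 2, 10], [17, 4, 18, 3, 0, 4], [9, 6, 9, 15, 0, 0], [13, 8, 11, 0, 0, 2], [21, 1, 13, 4, 0, 5], [7, 6, 3, 9, 1, 8], [8, 15, 14, 11, 2, 2], [1, 9, 6, 13, 0, 11], [16, 3, 11, 10, 0, 7], [14, 16, 18, 9, 1, 0], [10, 16, 10, 9, 2, 8], [20, 5, 8, 10, 2, 11]],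
  [[1, 0, 0, 0, 0, 0], [6, 0, 0, 0, 0, 0], [12, 0, 0, 0, 0, 0], [10, 3, 2, 1, 1, 9], [16, 0, 0, 0, 0, 0], [4, 7, 0, 14, 1, 0], [19, 0, 0, 0, 0, 0], [7, 4, 7, 1, 2, 11], [3, 2, 7, 13, 0, 1], [20, 0, 0, 0, 0, 0], [21, 0, 0, 0, 0, 0], [2, 14, 5, 0, 0, 6], [14, 1, 13, 5, 1, 1], [17, 7, 12, 4, 2, 0], [9, 1, 17, 3, 1, 5], [11, 0, 2, 11, 0, 8], [0, 0, 3, 0, 2, 9], [18, 2, 5, 1, 2, 11], [8, 8, 9, 0, 2, 1], [5, 16, 13, 8, 2, 3], [15, 17, 11, 12, 2, 10], [13, 1, 0, 5, 0, 1]],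
  [[0, 0, 0, 0, 0, 1], [1, 0, 0, 0, 0, 1], [2, 0, 0, 0, 0, 1], [3, 0, 0, 0, 0, 1], [4, 0, 0, 0, 0, 1], [5, 0, 0, 0, 0, 1], [6, 0, 0, 0, 0, 1], [7, 0, 0, 0, 0, 1], [8, 0, 0, 0, 0, 1], [9, 0, 0, 0, 0, 1], [10, 0, 0, 0, 0, 1], [11, 0, 0, 0, 0, 1], [12, 0, 0, 0, 0, 1], [13, 0, 0, 0, 0, 1], [14, 0, 0, 0, 0, 1], [15, 0, 0, 0, 0, 1], [16, 0, 0, 0, 0, 1], [17, 0, 0, 0, 0, 1], [18, 0, 0, 0, 0, 1], [19, 0, 0, 0, 0, 1], [20, 0, 0, 0, 0, 1], [21, 0, 0, 0, 0, 1]]]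

/-- Products at level 1. -/
def rules1 : List (List (List ℕ)) :=
  [
  [[0, 0, 0, 1, 0], [2, 0, 0, 0, 0], [7, 0, 0, 0, 0], [11, 0, 0, 0, 0], [10, 12, 5, 1, 2], [17, 0, 0, 0, 0], [14, 3, 9, 0, 1], [1, 0, 0, 0, 0], [16, 10, 0, 0, 5], [3, 5, 4, 2, 4], [18, 3, 5, 2, 9], [9, 13, 5, 1, 2], [6, 19, 6, 0, 4], [5, 17, 14, 1, 11], [12, 3, 11, 1, 8], [15, 13, 5, 1, 0], [19, 8, 12, 2, 10], [13, 17, 14, 1, 5], [4, 2, 11, 1, 3], [8, 15, 15, 2, 4], [20, 7, 14, 0, 1]],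
  [[0, 0, 1, 0, 0], [3, 0, 0, 0, 0], [8, 0, 0, 0, 0], [12, 0, 0, 0, 0], [15, 0, 0, 0, 0], [17, 12, 6, 0, 11], [19, 0, 0, 0, 0], [6, 19, 6, 0, 1], [9, 13, 5, 1, 5], [2, 5, 4, 2, 4], [4, 4, 4, 2, 1], [16, 10, 0, 0, 2], [1, 0, 0, 0, 3], [5, 14, 3, 2, 3], [11, 3, 11, 1, 8], [10, 4, 4, 2, 8], [14, 13, 5, 0, 1], [13, 11, 6, 1, 0], [18, 17, 12, 0, 1], [7, 15, 15, 2, 4], [20, 8, 3, 2, 10]],
  [[0, 0, 2, 0, 0], [4, 0, 0, 0, 0], [9, 0, 0, 0, 0], [6, 7, 4, 1, 9], [14, 4, 12, 0, 4], [17, 2, 11, 1, 1], [10, 9, 7, 2, 8], [12, 13, 5, 1, 7], [8, 13, 5, 1, 1], [18, 2, 11, 1, 10], [3, 4, 4, 2, 9], [7, 13, 5, 1, 4], [11, 13, 5, 1, 4], [5, 13, 1, 0, 0], [1, 7, 4, 2, 8], [19, 7, 4, 1, 1], [15, 14, 8, 0, 1], [13, 4, 4, 2, 4], [2, 2, 11, 1, 5], [16, 19, 6, 2, 7], [20, 12, 1, 1, 2]],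
  [[0, 1, 0, 0, 0], [5, 0, 0, 0, 0], [10, 0, 0, 0, 0], [13, 0, 0, 0, 0], [9, 3, 5, 2, 4], [18, 0, 0, 0, 0], [14, 1, 9, 0, 11], [4, 11, 13, 1, 4], [19, 2, 13, 0, 3], [11, 11, 5, 0, 11], [6, 17, 10, 2, 11], [7, 13, 6, 0, 4], [17, 18, 12, 2, 0], [12, 19, 5, 0, 3], [2, 4, 8, 0, 4], [16, 9, 14, 0, 6], [15, 12, 13, 1, 6], [3, 16, 1, 0, 5], [20, 2, 12, 0, 7], [8, 8, 14, 1, 5], [1, 7, 11, 1, 7]],
  [[1, 0, 0, 0, 0], [6, 0, 0, 0, 0], [4, 6, 4, 2, 10], [14, 0, 0, 0, 0], [16, 0, 0, 0, 0], [7, 1, 11, 0, 4], [5, 13, 12, 1, 4], [0, 12, 9, 2, 1], [8, 18, 13, 2, 8], [3, 18, 0, 0, 10], [12, 3, 4, 0, 0], [10, 3, 0, 1, 0], [13, 12, 6, 2, 0], [15, 7, 14, 2, 4], [18, 7, 10, 2, 11], [11, 15, 8, 1, 6], [17, 10, 7, 1, 8], [20, 0, 0, 0, 0], [19, 9, 4, 2, 8], [9, 3, 9, 2, 10], [2, 14, 9, 2, 6]],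
  [[0, 0, 0, 0, 1], [1, 0, 0, 0, 1], [2, 0, 0, 0, 1], [3, 0, 0, 0, 1], [4, 0, 0, 0, 1], [5, 0, 0, 0, 1], [6, 0, 0, 0, 1], [7, 0, 0, 0, 1], [8, 0, 0, 0, 1], [9, 0, 0, 0, 1], [10, 0, 0, 0, 1], [11, 0, 0, 0, 1], [12, 0, 0, 0, 1], [13, 0, 0, 0, 1], [14, 0, 0, 0, 1], [15, 0, 0, 0, 1], [16, 0, 0, 0, 1], [17, 0, 0, 0, 1], [18, 0, 0, 0, 1], [19, 0, 0, 0, 1], [20, 0, 0, 0, 1]]]

/-- Products at level 2. -/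
def rules2 : List (List (List ℕ)) :=
  [
  [[0, 0, 1, 0], [2, 0, 0, 0], [6, 0, 0, 0], [10, 0, 0, 0], [9, 2, 0, 4], [16, 0, 0, 0], [1, 0, 0, 0], [18, 0, 0, 0], [3, 1, 0, 1], [17, 0, 2, 10], [8, 4, 0, 8], [12, 4, 0, 8], [15, 4, 0, 8], [5, 14, 0, 8], [14, 4, 0, 6], [11, 4, 0, 2], [13, 14, 0, 2], [4, 8, 1, 7], [19, 2, 0, 3], [7, 8, 0, 6]],
  [[0, 1, 0, 0], [3, 0, 0, 0], [7, 0, 0, 0], [11, 0, 0, 0], [14, 0, 0, 0], [16, 11, 0, 5], [12, 4, 0, 5], [8, 4, 0, 11], [2, 1, 0, 1], [4, 10, 0, 3], [18, 0, 0, 9], [1, 0, 0, 3], [19, 5, 0, 10], [5, 6, 1, 11], [9, 10, 0, 10], [10, 4, 0, 2], [13, 4, 1, 6], [17, 9, 2, 5], [15, 1, 0, 1], [6, 8, 0, 6]],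
  [[0, 2, 0, 0], [4, 0, 0, 0], [8, 0, 0, 0], [12, 0, 0, 0], [15, 0, 0, 0], [16, 8, 1, 5], [11, 4, 0, 1], [7, 4, 0, 7], [17, 8, 1, 2], [3, 10, 0, 11], [6, 4, 0, 10], [10, 4, 0, 10], [9, 10, 0, 2], [5, 7, 1, 9], [19, 5, 0, 2], [1, 0, 0, 3], [13, 10, 0, 6], [2, 8, 1, 9], [14, 1, 0, 9], [18, 10, 0, 2]],
  [[1, 0, 0, 0], [5, 0, 0, 0], [9, 0, 0, 0], [13, 0, 0, 0], [8, 0, 2, 5], [17, 0, 0, 0], [4, 8, 2, 8], [19, 0, 0, 0], [10, 7, 0, 8], [12, 7, 2, 5], [6, 5, 2, 1], [16, 13, 0, 1], [15, 12, 1, 0], [11, 7, 2, 3], [18, 4, 2, 0], [2, 6, 2, 3], [3, 14, 2, 9], [0, 0, 0, 2], [14, 12, 2, 6], [7, 6, 1, 0]],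
  [[0, 0, 0, 1], [1, 0, 0, 1], [2, 0, 0, 1], [3, 0, 0, 1], [4, 0, 0, 1], [5, 0, 0, 1], [6, 0, 0, 1], [7, 0, 0, 1], [8, 0, 0, 1], [9, 0, 0, 1], [10, 0, 0, 1], [11, 0, 0, 1], [12, 0, 0, 1], [13, 0, 0, 1], [14, 0, 0, 1], [15, 0, 0, 1], [16, 0, 0, 1], [17, 0, 0, 1], [18, 0, 0, 1], [19, 0, 0, 1]]]

/-- Products at level 3. -/
def rules3 : List (List (List ℕ)) :=
  [
  [[0, 1, 0], [3, 0, 0], [6, 0, 0], [4, 1, 9], [1, 2, 3], [11, 0, 0], [8, 1, 11], [15, 0, 0], [2, 2, 1], [7, 2, 6], [12, 1, 0], [14, 1, 0], [13, 1, 2], [10, 1, 10], [5, 2, 0], [9, 1, 6]],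
  [[1, 0, 0], [4, 0, 0], [7, 0, 0], [3, 1, 9], [0, 0, 3], [12, 0, 0], [14, 0, 0], [13, 0, 8], [10, 0, 4], [6, 2, 6], [11, 1, 0], [8, 2, 11], [15, 1, 6], [2, 0, 7], [9, 1, 9], [5, 2, 9]],
  [[2, 0, 0], [5, 0, 0], [8, 0, 0], [9, 0, 0], [10, 0, 0], [13, 0, 0], [6, 1, 1], [12, 0, 4], [0, 0, 3], [14, 1, 1], [15, 1, 10], [7, 2, 7], [11, 1, 4], [1, 0, 3], [3, 2, 2], [4, 2, 5]],
  [[0, 0, 1], [1, 0, 1], [2, 0, 1], [3, 0, 1], [4, 0, 1], [5, 0, 1], [6, 0, 1], [7, 0, 1], [8, 0, 1], [9, 0, 1], [10, 0, 1], [11, 0, 1], [12, 0, 1], [13, 0, 1], [14, 0, 1], [15, 0, 1]]]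

/-- Products at level 4. -/
def rules4 : List (List (List ℕ)) :=
  [
  [[1, 0], [2, 0], [0, 0]],
  [[0, 1], [1, 1], [2, 1]]]

/-- All the products. -/
def rules : List (List (List (List ℕ))) :=
  [rules0, rules1, rules2, rules3, rules4]

/-- Two commutators whose quotient is central. -/
def commWord : List ℕ × List ℕ × List ℕ × List ℕ :=
  ([1, 1, 3], [0, 1, 1], [0, 2], [4, 1])

/-- The power of the central element that they give. -/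
def commExp : ℕ := 7

end CfsgLib.SchurMult.M22
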